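import Cfsg.Agent.H978.KB.Case
import Cfsg.Agent.H742.S4822.OneLeFinal
import Cfsg.Agent.H538.KB.Two

/-!
# S4822, T2: the final form (helper978)
-/

set_option autoImplicit false

open Cfsg Subgroup Cfsg.Agent.H508.KB

namespace Cfsg.Agent.H978.KB

universe u

variable {p : ℕ} [Fact p.Prime] {M : Ideal AlgInt}

/-- T2 -/
theorem nonab_case (hM : IsPModular p M)
    (hrow : ∀ (A : Type u) [Group A] [Finite A] (S : Subgroup A) [S.Normal], IsSimpleGroup S → ¬ IsMulCommutative S →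
      centralizer (S : Set A) = ⊥ → ¬ p ∣ S.index → p ∣ Nat.card S → Good M S p)
    (G : Type u) [Group G] [Finite G] (N : Subgroup G) [N.Normal]
    (hmin : ∀ K : Subgroup G, K.Normal → K ≤ N → K = ⊥ ∨ K = N) (hN1 : N ≠ ⊥)
    (hna : ¬ ∀ x ∈ N, ∀ y ∈ N, x * y = y * x) (hcen : centralizer (N : Set G) = ⊥) (hcop : ¬ p ∣ N.index)
    (hdN : p ∣ Nat.card N) : 4 * (p - 1) ≤ kB M G ^ 2 :=
  nonab_case_of (fun D _ h => Cfsg.Agent.H538.KB.card_two_le hM D h)
    (fun D _ h h' => Cfsg.Agent.H742.S4822.card_one_le hM D h h') hM hrow G N hmin hN1 hna hcen hcop hdN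

end Cfsg.Agent.H978.KB
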