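import Cfsg.Agent.H508.KB.Defs
import Cfsg.Agent.H978.Alm.Nonab
import Cfsg.Agent.H590.KB.Under
import Cfsg.Agent.H395.KBUniq

/-!
# S4822, T2: the case of a nonabelian minimal normal subgroup (helper978)
-/

set_option autoImplicit false

open Cfsg Subgroup Cfsg.Agent.H508.KB
open Cfsg.Agent.Lib.MinNormalNonabelian Cfsg.Agent.H531.LemX
open Cfsg.Agent.H978.Alm.Nonab

namespace Cfsg.Agent.H978.KB

universe u

variable {p : ℕ} [Fact p.Prime] {M : Ideal AlgInt}

/-- the statement T1a -/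
def T1a (p : ℕ) (M : Ideal AlgInt) : Prop :=
  ∀ {G : Type u} [Group G] [Finite G] {N : Subgroup G} [N.Normal] {T : minSet N} {A : Type u} [Group A] [Finite A]
    {π : ↥(normalizer (T.1 : Set G)) →* A} (_ : Dat N T π) [(Im π).Normal] (_ : ¬ p ∣ N.index),
    (kap M (Im π) + Nat.card (minSet N) - 1).choose (Nat.card (minSet N)) ≤
      Nat.card {χ : IrrCharacter G // χ ∈ principalBlock M G ∧ ∃ j, 2 ≤ j ∧ NT N χ j} + kap M (Im π)

/-- the statement T1b -/
def T1b (p : ℕ) (M : Ideal AlgInt) : Prop :=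
  ∀ {G : Type u} [Group G] [Finite G] {N : Subgroup G} [N.Normal] {T : minSet N} {A : Type u} [Group A] [Finite A]
    {π : ↥(normalizer (T.1 : Set G)) →* A} (_ : Dat N T π) [(Im π).Normal] (_ : ¬ p ∣ N.index)
    (_ : p ∣ Nat.card N),
    kB M A ≤ Nat.card {χ : IrrCharacter G // χ ∈ principalBlock M G ∧ NT N χ 1} + ker M (Im π)

/-- three disjoint subsets -/
theorem card_three_le {α : Type*} [Finite α] {P Q R S : α → Prop} (hQ : ∀ x, Q x → P x) (hR : ∀ x, R x → P x)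
    (hS : ∀ x, S x → P x) (h1 : ∀ x, Q x → ¬ R x) (h2 : ∀ x, Q x → ¬ S x) (h3 : ∀ x, R x → ¬ S x) :
    Nat.card {x // Q x} + Nat.card {x // R x} + Nat.card {x // S x} ≤ Nat.card {x // P x} := by
  rw [← Nat.card_sum, ← Nat.card_sum]
  refine Nat.card_le_card_of_injective (Sum.elim (Sum.elim (fun x => ⟨x.1, hQ _ x.2⟩) (fun x => ⟨x.1, hR _ x.2⟩))
    (fun x => ⟨x.1, hS _ x.2⟩)) ?_
  rintro ((x | x) | x) ((y | y) | y) h <;> have h' := congrArg Subtype.val h <;> simp only [Sum.elim_inl, Sum.elim_inr] at h'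
  · exact congrArg _ (congrArg _ (Subtype.ext h'))
  · exact (h1 _ x.2 (h' ▸ y.2)).elim
  · exact (h2 _ x.2 (h' ▸ y.2)).elim
  · exact (h1 _ y.2 (h' ▸ x.2)).elim
  · exact congrArg _ (congrArg _ (Subtype.ext h'))
  · exact (h3 _ x.2 (h' ▸ y.2)).elim
  · exact (h2 _ y.2 (h' ▸ x.2)).elim
  · exact (h3 _ y.2 (h' ▸ x.2)).elim
  · exact congrArg _ (Subtype.ext h')

/-- T2, modulo T1a and T1b -/
theorem nonab_case_of (h1a : T1a.{u} p M) (h1b : T1b.{u} p M) (hM : IsPModular p M)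
    (hrow : ∀ (A : Type u) [Group A] [Finite A] (S : Subgroup A) [S.Normal], IsSimpleGroup S → ¬ IsMulCommutative S →
      centralizer (S : Set A) = ⊥ → ¬ p ∣ S.index → p ∣ Nat.card S → Good M S p)
    (G : Type u) [Group G] [Finite G] (N : Subgroup G) [N.Normal]
    (hmin : ∀ K : Subgroup G, K.Normal → K ≤ N → K = ⊥ ∨ K = N) (_ : N ≠ ⊥)
    (hna : ¬ ∀ x ∈ N, ∀ y ∈ N, x * y = y * x) (hcen : centralizer (N : Set G) = ⊥) (hcop : ¬ p ∣ N.index)
    (hdN : p ∣ Nat.card N) : 4 * (p - 1) ≤ kB M G ^ 2 := by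
  have hstr : Str N := Str.of N hmin hna
  obtain ⟨T0, hT0⟩ := hstr.nonempty
  let T : minSet N := ⟨T0, hT0⟩
  have : Nonempty (minSet N) := ⟨T⟩
  let π := (T.1.normalizerMonoidHom).rangeRestrict
  have D : Dat N T π := by
    refine ⟨hstr, MonoidHom.rangeRestrict_surjective _, fun u => ?_, hcen⟩
    rw [← MonoidHom.mem_ker, MonoidHom.ker_rangeRestrict, normalizerMonoidHom_ker, mem_subgroupOf, mem_centralizer_iff]
    exact ⟨fun h s hs => (h s hs).symm, fun h s hs => (h s hs).symm⟩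
  have hSn := D.im_normal
  have hG := hrow _ (Im π) D.im_simple D.im_nonab D.im_cen (D.im_index hcop) (D.im_dvd hdN)
  have ht : 1 ≤ Nat.card (minSet N) := Nat.card_pos
  have i1 := h1a D hcop
  have i2 := h1b D hcop hdN
  have i3 := Cfsg.Agent.H590.KB.ker_le_mul hM D hcop hdN
  refine hG (Nat.card (minSet N)) (Nat.card {χ : IrrCharacter G // χ ∈ principalBlock M G ∧ NT N χ 0}) (kB M G) ht i3 ?_
  have hu := fun (χ : IrrCharacter G) {i j : ℕ} (hi : NT N χ i) (hj : NT N χ j) =>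
    Cfsg.Agent.H395.KBUniq.NT_unique χ hi hj
  have := Fintype.ofFinite G
  have := Cfsg.Agent.Characters.Core.finite_irr (G := G)
  have i4 : Nat.card {χ : IrrCharacter G // χ ∈ principalBlock M G ∧ NT N χ 0} +
      Nat.card {χ : IrrCharacter G // χ ∈ principalBlock M G ∧ NT N χ 1} +
      Nat.card {χ : IrrCharacter G // χ ∈ principalBlock M G ∧ ∃ j, 2 ≤ j ∧ NT N χ j} ≤ kB M G := by
    refine card_three_le (P := fun χ => χ ∈ principalBlock M G) (fun χ h => h.1) (fun χ h => h.1) (fun χ h => h.1)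
      (fun χ h h' => ?_) (fun χ h h' => ?_) (fun χ h h' => ?_)
    · exact absurd (hu χ h.2 h'.2) (by norm_num)
    · obtain ⟨-, j, hj, h''⟩ := h'
      have := hu χ h.2 h''
      omega
    · obtain ⟨-, j, hj, h''⟩ := h'
      have := hu χ h.2 h''
      omega
  omega

end Cfsg.Agent.H978.KB
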